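import Cfsg.Agent.OddOrder.BG2.Degree2
import Mathlib.Algebra.Module.ZMod
import Mathlib.FieldTheory.Finiteness
import Mathlib.GroupTheory.PGroup
import Mathlib.LinearAlgebra.Matrix.ToLin

/-!
# BG 2.6 in group language: odd order groups acting on elementary abelian groups of order p²
-/

set_option autoImplicit false
set_option linter.style.haveILetI false

namespace CfsgLib.OddOrder

open Subgroup Cfsg

theorem exists_matrix_rep_of_card_sq {V : Type*} [AddCommGroup V] [Finite V] (p : ℕ)
    [Fact p.Prime] [Module (ZMod p) V] (hcard : Nat.card V = p ^ 2) :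
    ∃ ρ : AddMonoid.End V →+* Matrix (Fin 2) (Fin 2) (ZMod p), Function.Injective ρ := by
  have hfr : Module.finrank (ZMod p) V = 2 := by
    have h := Module.natCard_eq_pow_finrank (K := ZMod p) (V := V)
    rw [Nat.card_zmod, hcard] at h
    exact (Nat.pow_right_injective (Fact.out : p.Prime).two_le h).symm
  let b := Module.finBasisOfFinrankEq (ZMod p) V hfr
  let f : AddMonoid.End V →+* Module.End (ZMod p) V :=
    { toFun := fun φ => AddMonoidHom.toZModLinearMap p φ
      map_one' := LinearMap.ext fun _ => rfl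
      map_mul' := fun φ ψ => LinearMap.ext fun _ => rfl
      map_zero' := LinearMap.ext fun _ => rfl
      map_add' := fun φ ψ => LinearMap.ext fun _ => rfl }
  refine ⟨((LinearMap.toMatrixAlgEquiv b).toRingEquiv.toRingHom).comp f, fun φ ψ h => ?_⟩
  exact AddMonoidHom.toZModLinearMap_injective p ((LinearMap.toMatrixAlgEquiv b).injective h)

theorem exists_matrix_rep_abelem_two_comm {E : Type*} [CommGroup E] [Finite E] (p : ℕ)
    [Fact p.Prime] (hexp : ∀ a : E, a ^ p = 1) (hcard : Nat.card E = p ^ 2) :
    ∃ ρ : MulAut E →* Matrix (Fin 2) (Fin 2) (ZMod p), Function.Injective ρ := by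
  letI : Module (ZMod p) (Additive E) :=
    AddCommGroup.zmodModule (G := Additive E) fun x => hexp (Additive.toMul x)
  haveI : Finite (Additive E) := Finite.of_equiv E Additive.ofMul
  obtain ⟨ρ, hρ⟩ := exists_matrix_rep_of_card_sq (V := Additive E) p
    ((Nat.card_congr Additive.toMul).trans hcard)
  let f : MulAut E →* AddMonoid.End (Additive E) :=
    { toFun := fun φ => MonoidHom.toAdditive φ.toMonoidHom
      map_one' := DFunLike.ext _ _ fun _ => rfl
      map_mul' := fun φ ψ => DFunLike.ext _ _ fun _ => rfl }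
  refine ⟨ρ.toMonoidHom.comp f, fun φ ψ h => MulEquiv.ext fun x => ?_⟩
  exact congrArg Additive.toMul (DFunLike.congr_fun (hρ h) (Additive.ofMul x))

/-- A faithful matrix representation of the automorphisms of an elementary abelian group of
order `p ^ 2`. -/
theorem exists_matrix_rep_abelem_two {E : Type*} [Group E] [Finite E] (p : ℕ) [Fact p.Prime]
    (hcomm : ∀ a b : E, a * b = b * a) (hexp : ∀ a : E, a ^ p = 1) (hcard : Nat.card E = p ^ 2) :
    ∃ ρ : MulAut E →* Matrix (Fin 2) (Fin 2) (ZMod p), Function.Injective ρ := by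
  letI : CommGroup E := { ‹Group E› with mul_comm := hcomm }
  exact exists_matrix_rep_abelem_two_comm p hexp hcard

variable {G : Type*} [Group G] [Finite G]

/-- BG 2.6: if a solvable group `A` of odd order normalizes an elementary abelian group `E` of order
`p ^ 2`, then `p`-th powers of elements of `A'` centralize `E`. -/
theorem pow_mem_centralizer_of_mem_commutator_abelem_two (p : ℕ) [Fact p.Prime] {A E : Subgroup G}
    (hA : Group.IsSolvable A) (hodd : Odd (Nat.card A)) (hE : IsElementaryAbelian p E)
    (hcard : Nat.card E = p ^ 2) (hAE : A ≤ normalizer (E : Set G)) {x : G} (hx : x ∈ ⁅A, A⁆) :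
    x ^ p ∈ centralizer (E : Set G) := by
  obtain ⟨ρ, hρ⟩ := exists_matrix_rep_abelem_two (E := E) p
    (fun a b => hE.1.is_comm.comm a b) (fun a => Subtype.ext (hE.2 a a.2)) hcard
  let f : A →* MulAut E := (normalizerMonoidHom E).comp (inclusion hAE)
  rw [← map_subtype_commutator] at hx
  obtain ⟨y, hy, rfl⟩ := hx
  haveI := hA
  have h1 := rep_two_pow_char_of_mem_commutator hodd p (ρ.comp f) hy
  have h2 : f (y ^ p) = 1 := hρ (by rw [map_one, ← h1, ← map_pow]; rfl)
  have h3 : inclusion hAE (y ^ p) ∈ (normalizerMonoidHom E).ker := MonoidHom.mem_ker.2 h2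
  rw [normalizerMonoidHom_ker, mem_subgroupOf] at h3
  simpa using h3

/-- BG 2.6(a): a faithful solvable group of odd order of automorphisms of an elementary abelian
group of order `p ^ 2` has a `p`-group as derived subgroup. -/
theorem isPGroup_commutator_of_faithful_abelem_two (p : ℕ) [Fact p.Prime] {A E : Subgroup G}
    (hA : Group.IsSolvable A) (hodd : Odd (Nat.card A)) (hE : IsElementaryAbelian p E)
    (hcard : Nat.card E = p ^ 2) (hAE : A ≤ normalizer (E : Set G))
    (hfaith : A ⊓ centralizer (E : Set G) = ⊥) : IsPGroup p ↥⁅A, A⁆ := by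
  rintro ⟨x, hx⟩
  refine ⟨1, Subtype.ext ?_⟩
  have hxA : x ∈ A := commutator_le_self A hx
  have h : x ^ p ∈ A ⊓ centralizer (E : Set G) :=
    ⟨pow_mem hxA p, pow_mem_centralizer_of_mem_commutator_abelem_two p hA hodd hE hcard hAE hx⟩
  rw [hfaith, mem_bot] at h
  simpa using h

/-- BG 2.6(b): a solvable `p'`-group of odd order acting on an elementary abelian group of order
`p ^ 2` has derived subgroup centralizing it. -/
theorem commutator_le_centralizer_abelem_two (p : ℕ) [Fact p.Prime] {A E : Subgroup G}
    (hA : Group.IsSolvable A) (hodd : Odd (Nat.card A)) (hE : IsElementaryAbelian p E)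
    (hcard : Nat.card E = p ^ 2) (hAE : A ≤ normalizer (E : Set G))
    (hcop : (Nat.card A).Coprime p) : ⁅A, A⁆ ≤ centralizer (E : Set G) := by
  intro x hx
  have h := pow_mem_centralizer_of_mem_commutator_abelem_two p hA hodd hE hcard hAE hx
  have hco : (orderOf x).Coprime p :=
    Nat.Coprime.coprime_dvd_left ((Subgroup.orderOf_mk x (commutator_le_self A hx)) ▸
      orderOf_dvd_natCard (⟨x, commutator_le_self A hx⟩ : A)) hcop
  obtain ⟨k, hk⟩ := exists_pow_eq_self_of_coprime (x := x) hco.symm
  exact hk ▸ pow_mem h k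

end CfsgLib.OddOrder
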