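import Cfsg.Prelude.Def_OddOrderLocal
import Mathlib.LinearAlgebra.Matrix.ToLinearEquiv
import Mathlib.LinearAlgebra.Matrix.Charpoly.Coeff
import Mathlib.LinearAlgebra.Eigenspace.Triangularizable
import Mathlib.FieldTheory.IsAlgClosed.AlgebraicClosure
import Mathlib.Algebra.CharP.Lemmas

/-!
# BG 2.6: two-dimensional representations of solvable groups of odd order

A solvable group of odd order acting linearly in dimension two over an algebraically closed field
fixes a line; hence the elements of its derived subgroup act unipotently.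
-/

set_option autoImplicit false
set_option linter.style.haveILetI false

namespace CfsgLib.OddOrder

open Matrix

section plane

variable {K : Type*} [Field K]

/-- `u` spans a line fixed by `M`. -/
def IsEigenVec (M : Matrix (Fin 2) (Fin 2) K) (u : Fin 2 → K) : Prop :=
  ∃ c : K, M *ᵥ u = c • u

theorem exists_smul_or_exists_combo {v : Fin 2 → K} (hv : v ≠ 0) (w : Fin 2 → K) :
    (∃ c : K, w = c • v) ∨ ∀ u : Fin 2 → K, ∃ α β : K, u = α • v + β • w := by
  by_cases hd : v 0 * w 1 - v 1 * w 0 = 0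
  · refine Or.inl ?_
    by_cases h0 : v 0 = 0
    · have h1 : v 1 ≠ 0 := fun h1 => hv (by ext i; fin_cases i <;> simp [h0, h1])
      have hw0 : w 0 = 0 := by simpa [h0, h1] using hd
      refine ⟨w 1 / v 1, ?_⟩
      ext i; fin_cases i
      · simp [h0, hw0]
      · simp [h1]
    · refine ⟨w 0 / v 0, ?_⟩
      ext i; fin_cases i
      · simp [h0]
      · simp only [Fin.mk_one, Pi.smul_apply, smul_eq_mul]
        field_simp
        linear_combination hd
  · refine Or.inr fun u => ?_
    refine ⟨(u 0 * w 1 - u 1 * w 0) / (v 0 * w 1 - v 1 * w 0),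
      (v 0 * u 1 - v 1 * u 0) / (v 0 * w 1 - v 1 * w 0), ?_⟩
    ext i; fin_cases i <;>
    · simp only [Fin.zero_eta, Fin.mk_one, Pi.add_apply, Pi.smul_apply, smul_eq_mul]
      rw [div_mul_eq_mul_div, div_mul_eq_mul_div, ← add_div, eq_div_iff hd]
      ring

theorem eigenVec_of_scalar {M : Matrix (Fin 2) (Fin 2) K} (h : ∃ c : K, ∀ u, M *ᵥ u = c • u)
    (u : Fin 2 → K) : IsEigenVec M u :=
  h.imp fun _ hc => hc u

/-- If `v` is not scalar-related to `w` and both are eigenvectors of a nonscalar `M`, every other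
eigenvector of `M` lies on one of the two lines. -/
theorem eigenVec_dichotomy {M : Matrix (Fin 2) (Fin 2) K}
    (hM : ¬ ∃ c : K, ∀ u, M *ᵥ u = c • u) {v w u : Fin 2 → K} (hv : v ≠ 0)
    (hind : ¬ ∃ c : K, w = c • v) (hMv : IsEigenVec M v) (hMw : IsEigenVec M w)
    (hMu : IsEigenVec M u) : (∃ c : K, u = c • v) ∨ ∃ c : K, u = c • w := by
  have hspan := (exists_smul_or_exists_combo hv w).resolve_left hind
  obtain ⟨a, ha⟩ := hMv
  obtain ⟨b, hb⟩ := hMw
  obtain ⟨c, hc⟩ := hMu
  have hab : a ≠ b := by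
    rintro rfl
    refine hM ⟨a, fun z => ?_⟩
    obtain ⟨α, β, rfl⟩ := hspan z
    rw [mulVec_add, mulVec_smul, mulVec_smul, ha, hb, smul_add, smul_comm α, smul_comm β]
  obtain ⟨α, β, rfl⟩ := hspan u
  rw [mulVec_add, mulVec_smul, mulVec_smul, ha, hb, smul_add, smul_smul, smul_smul, smul_smul,
    smul_smul] at hc
  have hcomb : (α * (a - c)) • v + (β * (b - c)) • w = 0 := by
    rw [mul_sub, mul_sub, sub_smul, sub_smul, mul_comm α c, mul_comm β c]
    linear_combination (norm := module) hc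
  have hβ : β * (b - c) = 0 := by
    by_contra hne
    refine hind ⟨-((β * (b - c))⁻¹ * (α * (a - c))), ?_⟩
    have := congrArg (fun z => (β * (b - c))⁻¹ • z) hcomb
    simp only [smul_add, smul_smul, inv_mul_cancel₀ hne, one_smul, smul_zero] at this
    linear_combination (norm := module) this
  have hα : α * (a - c) = 0 := by
    rw [hβ, zero_smul, add_zero] at hcomb
    exact (smul_eq_zero.1 hcomb).resolve_right hv
  rcases mul_eq_zero.1 hβ with h | h
  · exact Or.inl ⟨α, by simp [h]⟩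
  · rcases mul_eq_zero.1 hα with h' | h'
    · exact Or.inr ⟨β, by simp [h']⟩
    · exact absurd (sub_eq_zero.1 h' |>.trans (sub_eq_zero.1 h).symm) hab

end plane

section representation

variable {G : Type*} [Group G] {K : Type*} [Field K] (ρ : G →* Matrix (Fin 2) (Fin 2) K)

theorem rep_mulVec_mul (g h : G) (v : Fin 2 → K) : ρ (g * h) *ᵥ v = ρ g *ᵥ (ρ h *ᵥ v) := by
  rw [map_mul, mulVec_mulVec]

theorem rep_mulVec_inv_cancel (g : G) (v : Fin 2 → K) : ρ g⁻¹ *ᵥ (ρ g *ᵥ v) = v := by
  rw [← rep_mulVec_mul, inv_mul_cancel, map_one, one_mulVec]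

theorem rep_eigen_ne_zero {g : G} {v : Fin 2 → K} {c : K} (hv : v ≠ 0)
    (h : ρ g *ᵥ v = c • v) : c ≠ 0 := by
  rintro rfl
  apply hv
  rw [← rep_mulVec_inv_cancel ρ g v, h, zero_smul, mulVec_zero]

/-- The stabilizer of the line through a nonzero vector. -/
def lineStabilizer (v : Fin 2 → K) (hv : v ≠ 0) : Subgroup G where
  carrier := {g | IsEigenVec (ρ g) v}
  one_mem' := ⟨1, by simp⟩
  mul_mem' := by
    rintro g h ⟨a, ha⟩ ⟨b, hb⟩
    exact ⟨b * a, by rw [rep_mulVec_mul, hb, mulVec_smul, ha, smul_smul]⟩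
  inv_mem' := by
    rintro g ⟨a, ha⟩
    refine ⟨a⁻¹, ?_⟩
    have h0 := rep_eigen_ne_zero ρ hv ha
    calc ρ g⁻¹ *ᵥ v = ρ g⁻¹ *ᵥ (a⁻¹ • (ρ g *ᵥ v)) := by
          rw [ha, smul_smul, inv_mul_cancel₀ h0, one_smul]
      _ = a⁻¹ • v := by rw [mulVec_smul, rep_mulVec_inv_cancel]

/-- A solvable group of odd order acting on a plane over an algebraically closed field fixes a
line. -/
theorem exists_common_eigenVec [IsAlgClosed K] [Finite G] [Group.IsSolvable G]
    (hodd : Odd (Nat.card G)) :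
    ∃ v : Fin 2 → K, v ≠ 0 ∧ ∀ g : G, IsEigenVec (ρ g) v := by
  suffices h : ∀ H : Subgroup G, ∃ v : Fin 2 → K, v ≠ 0 ∧ ∀ g ∈ H, IsEigenVec (ρ g) v by
    obtain ⟨v, hv, hg⟩ := h ⊤
    exact ⟨v, hv, fun g => hg g trivial⟩
  intro H
  induction H using WellFoundedLT.induction with
  | _ H ih =>
    rcases eq_or_ne H ⊥ with rfl | hH
    · refine ⟨![1, 0], fun h => one_ne_zero (congrFun h 0), fun g hg => ⟨1, ?_⟩⟩
      rw [Subgroup.mem_bot.1 hg]; simp
    have hd : ⁅H, H⁆ < H := Group.IsSolvable.commutator_lt_of_ne_bot hH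
    obtain ⟨N, hdN, hmax⟩ :=
      (Set.toFinite {N : Subgroup G | N < H}).exists_le_maximal (a := ⁅H, H⁆) hd
    have hNH : N < H := hmax.1
    obtain ⟨t, htH, htN⟩ := SetLike.exists_of_lt hNH
    have hgen : N ⊔ Subgroup.zpowers t = H := by
      refine (sup_le hNH.le (Subgroup.zpowers_le.2 htH)).eq_of_not_lt fun hlt => htN ?_
      exact hmax.2 hlt le_sup_left (le_sup_right (a := N) (Subgroup.mem_zpowers t))
    have hconj : ∀ n ∈ N, t⁻¹ * n * t ∈ N := fun n hn => by
      have hc : t⁻¹ * n * (t⁻¹)⁻¹ * n⁻¹ ∈ N :=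
        hdN (Subgroup.commutator_mem_commutator (H.inv_mem htH) (hNH.le hn))
      simpa [mul_assoc] using N.mul_mem hc hn
    have finish : ∀ v : Fin 2 → K, v ≠ 0 → (∀ n ∈ N, IsEigenVec (ρ n) v) → IsEigenVec (ρ t) v →
        ∃ v : Fin 2 → K, v ≠ 0 ∧ ∀ g ∈ H, IsEigenVec (ρ g) v := fun v hv hN ht =>
      ⟨v, hv, fun g hg =>
        (show N ⊔ Subgroup.zpowers t ≤ lineStabilizer ρ v hv from
          sup_le hN (Subgroup.zpowers_le.2 ht)) (hgen.symm ▸ hg)⟩
    by_cases hsc : ∀ n ∈ N, ∃ c : K, ∀ u, ρ n *ᵥ u = c • u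
    · obtain ⟨μ, hμ⟩ := Module.End.exists_eigenvalue (toLin' (ρ t))
      obtain ⟨v, hv, hv0⟩ := hμ.exists_hasEigenvector
      refine finish v hv0 (fun n hn => eigenVec_of_scalar (hsc n hn) v) ⟨μ, ?_⟩
      simpa [Module.End.mem_eigenspace_iff] using hv
    push Not at hsc
    obtain ⟨n, hn, hns⟩ := hsc
    have hns' : ¬ ∃ c : K, ∀ u, ρ n *ᵥ u = c • u := by
      rintro ⟨c, hc⟩
      obtain ⟨u, hu⟩ := hns c
      exact hu (hc u)
    obtain ⟨v, hv, hvN⟩ := ih N hNH
    have himg : ∀ u, (∀ m ∈ N, IsEigenVec (ρ m) u) → ∀ m ∈ N, IsEigenVec (ρ m) (ρ t *ᵥ u) := by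
      intro u hu m hm
      obtain ⟨c, hc⟩ := hu _ (hconj m hm)
      refine ⟨c, ?_⟩
      rw [← rep_mulVec_mul, show m * t = t * (t⁻¹ * m * t) by group, rep_mulVec_mul, hc, mulVec_smul]
    by_cases hw : ∃ c : K, ρ t *ᵥ v = c • v
    · exact finish v hv hvN hw
    exfalso
    have hu := himg _ hvN
    rcases eigenVec_dichotomy hns' hv hw (hvN n hn) (hu n hn) (himg _ hu n hn) with ⟨c, hc⟩ | ⟨c, hc⟩
    · apply hw
      have h2 : t * t ∈ lineStabilizer ρ v hv := ⟨c, by rw [rep_mulVec_mul, hc]⟩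
      obtain ⟨k, hk⟩ := hodd.of_dvd_nat (orderOf_dvd_natCard t)
      have ht : t⁻¹ = (t * t) ^ k := by
        rw [← pow_two, ← pow_mul, inv_eq_iff_mul_eq_one, ← pow_succ', ← hk, pow_orderOf_eq_one]
      exact show t ∈ lineStabilizer ρ v hv from
        inv_mem_iff.1 (ht ▸ pow_mem h2 k)
    · apply hw
      refine ⟨c, ?_⟩
      have := congrArg (fun z => ρ t⁻¹ *ᵥ z) hc
      simpa only [mulVec_smul, rep_mulVec_inv_cancel] using this

end representation

/-- BG 2.6(a): elements of the derived subgroup of a solvable group of odd order act unipotently in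
dimension two. -/
theorem rep_two_unipotent_of_mem_commutator {G : Type*} [Group G] [Finite G] [Group.IsSolvable G]
    (hodd : Odd (Nat.card G)) {F : Type*} [Field F] (ρ : G →* Matrix (Fin 2) (Fin 2) F) {x : G}
    (hx : x ∈ commutator G) : (ρ x - 1) * (ρ x - 1) = 0 := by
  let ι := algebraMap F (AlgebraicClosure F)
  let σ : G →* Matrix (Fin 2) (Fin 2) (AlgebraicClosure F) :=
    (ι.mapMatrix : Matrix (Fin 2) (Fin 2) F →+* _).toMonoidHom.comp ρ
  obtain ⟨v, hv, hg⟩ := exists_common_eigenVec σ hodd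
  have hS : commutator G ≤
      { carrier := {g | σ g *ᵥ v = v ∧ (σ g).det = 1}
        one_mem' := ⟨by simp, by simp⟩
        mul_mem' := fun {a b} ha hb => ⟨by rw [rep_mulVec_mul, hb.1, ha.1],
          by rw [map_mul, det_mul, ha.2, hb.2, mul_one]⟩
        inv_mem' := fun {a} ha => ⟨by
            conv_lhs => rw [← ha.1]
            rw [rep_mulVec_inv_cancel],
          by
            have h := congrArg det (σ.map_mul a⁻¹ a).symm
            rw [inv_mul_cancel, map_one, det_one, det_mul, ha.2, mul_one] at h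
            exact h⟩ : Subgroup G } := by
    rw [commutator_eq_closure, Subgroup.closure_le]
    rintro _ ⟨a, b, rfl⟩
    obtain ⟨ca, hca⟩ := hg a
    obtain ⟨cb, hcb⟩ := hg b
    obtain ⟨ca', hca'⟩ := hg a⁻¹
    obtain ⟨cb', hcb'⟩ := hg b⁻¹
    have inv_scal : ∀ (g : G) (c c' : AlgebraicClosure F), σ g *ᵥ v = c • v →
        σ g⁻¹ *ᵥ v = c' • v → c * c' = 1 := fun g c c' h h' => by
      have h1 := rep_mulVec_inv_cancel σ g v
      rw [h, mulVec_smul, h', smul_smul] at h1
      exact smul_left_injective _ hv (h1.trans (one_smul _ v).symm)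
    refine ⟨?_, ?_⟩
    · simp only [commutatorElement_def, rep_mulVec_mul, hcb', hca', hcb, hca, mulVec_smul, smul_smul]
      rw [show cb' * (ca' * (cb * ca)) = (cb * cb') * (ca * ca') by ring, inv_scal a ca ca' hca hca',
        inv_scal b cb cb' hcb hcb', mul_one, one_smul]
    · simp only [commutatorElement_def, map_mul, det_mul]
      have ha := congrArg det (σ.map_mul a a⁻¹).symm
      have hb := congrArg det (σ.map_mul b b⁻¹).symm
      rw [mul_inv_cancel, map_one, det_one, det_mul] at ha hb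
      linear_combination (det (σ b) * det (σ b⁻¹)) * ha + hb
  obtain ⟨hfix, hdet⟩ := hS hx
  have hdet1 : (σ x - 1).det = 0 :=
    exists_mulVec_eq_zero_iff.1 ⟨v, hv, by rw [sub_mulVec, hfix, one_mulVec, sub_self]⟩
  rw [det_fin_two] at hdet1 hdet
  simp only [Matrix.sub_apply, one_apply, Fin.reduceEq, if_false, if_true] at hdet1
  have hzero : (σ x - 1) * (σ x - 1) = 0 := by
    ext i j
    fin_cases i <;> fin_cases j <;>
      simp [mul_apply, Fin.sum_univ_two, one_apply] <;>
      first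
        | linear_combination -(σ x 0 0 - 1) * (hdet1 - hdet) - hdet1
        | linear_combination -(σ x 0 1) * (hdet1 - hdet)
        | linear_combination -(σ x 1 0) * (hdet1 - hdet)
        | linear_combination -(σ x 1 1 - 1) * (hdet1 - hdet) - hdet1
  have : ι.mapMatrix ((ρ x - 1) * (ρ x - 1)) = ι.mapMatrix 0 := by
    rw [map_mul, map_sub, map_one, map_zero]
    exact hzero
  exact Matrix.map_injective ι.injective this

/-- BG 2.6(a), power form: in characteristic `p` the derived subgroup has exponent dividing `p`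
modulo the kernel. -/
theorem rep_two_pow_char_of_mem_commutator {G : Type*} [Group G] [Finite G] [Group.IsSolvable G]
    (hodd : Odd (Nat.card G)) {F : Type*} [Field F] (p : ℕ) [Fact p.Prime] [CharP F p]
    (ρ : G →* Matrix (Fin 2) (Fin 2) F) {x : G} (hx : x ∈ commutator G) : ρ x ^ p = 1 := by
  have h := rep_two_unipotent_of_mem_commutator hodd ρ hx
  have hp : (ρ x - 1) ^ p = 0 := by
    rw [← Nat.sub_add_cancel (Fact.out : p.Prime).two_le, pow_add, pow_two, h, mul_zero]
  rw [sub_pow_char_of_commute p (Commute.one_right _), one_pow, sub_eq_zero] at hp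
  exact hp

end CfsgLib.OddOrder
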