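import Cfsg.Agent.OddOrder.BG2.Abelem2
import Mathlib.RingTheory.RootsOfUnity.PrimitiveRoots
import Mathlib.LinearAlgebra.Matrix.GeneralLinearGroup.Card
import Mathlib.Data.ZMod.Basic

/-!
# BG 2.7: elementary abelian q-groups of rank two acting on elementary abelian p-groups of rank two
-/

set_option autoImplicit false
set_option linter.style.haveILetI false

namespace CfsgLib.OddOrder

open Matrix Cfsg

/-- A `2 × 2` matrix with both eigenvalues one whose `q`-th power is one, `q` invertible, is the
identity. -/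
theorem eq_one_of_unipotent_two {K : Type*} [Field K] {q : ℕ} (hq : (q : K) ≠ 0)
    {M : Matrix (Fin 2) (Fin 2) K} (h : (M - 1) * (M - 1) = 0) (hMq : M ^ q = 1) : M = 1 := by
  have key : ∀ n : ℕ, M ^ n = 1 + (n : K) • (M - 1) := by
    intro n
    induction n with
    | zero => simp
    | succ n ih =>
      have hM : M = 1 + (M - 1) := by abel
      rw [pow_succ, ih, add_mul, one_mul, smul_mul_assoc]
      conv_lhs => rw [hM]
      rw [mul_add, mul_one]
      simp only [add_sub_cancel_left, h, add_zero, Nat.cast_succ, add_smul, one_smul]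
      abel
  have := key q
  rw [hMq, left_eq_add, smul_eq_zero] at this
  exact sub_eq_zero.1 (this.resolve_left hq)

theorem unipotent_two_of_fix_of_det {K : Type*} [Field K] {M : Matrix (Fin 2) (Fin 2) K}
    {v : Fin 2 → K} (hv : v ≠ 0) (hfix : M *ᵥ v = v) (hdet : M.det = 1) :
    (M - 1) * (M - 1) = 0 := by
  have h1 : (M - 1).det = 0 :=
    exists_mulVec_eq_zero_iff.1 ⟨v, hv, by rw [sub_mulVec, hfix, one_mulVec, sub_self]⟩
  rw [det_fin_two] at h1 hdet
  simp only [Matrix.sub_apply, one_apply, Fin.reduceEq, if_false, if_true] at h1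
  ext i j
  fin_cases i <;> fin_cases j <;>
    simp [mul_apply, Fin.sum_univ_two, one_apply] <;>
    first
      | linear_combination -(M 0 0 - 1) * (h1 - hdet) - h1
      | linear_combination -(M 0 1) * (h1 - hdet)
      | linear_combination -(M 1 0) * (h1 - hdet)
      | linear_combination -(M 1 1 - 1) * (h1 - hdet) - h1

/-- BG 2.7, matrix form. -/
theorem exists_scalar_of_abelem_two_rep {Q : Type*} [Group Q] [Finite Q] (p q : ℕ) [Fact p.Prime]
    [Fact q.Prime] (hq : q ≠ 2) (hcomm : ∀ a b : Q, a * b = b * a) (hexp : ∀ a : Q, a ^ q = 1)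
    (hcard : Nat.card Q = q ^ 2) (ρ : Q →* Matrix (Fin 2) (Fin 2) (ZMod p))
    (hinj : Function.Injective ρ) :
    ∃ a : Q, a ≠ 1 ∧ ∃ r : ZMod p, r ≠ 1 ∧ r ^ q = 1 ∧ ρ a = r • (1 : Matrix _ _ _) := by
  have hqp : q ≠ p := by
    rintro rfl
    have hinj' : Function.Injective ρ.toHomUnits := fun a b h => hinj (congrArg Units.val h)
    have hd : q ^ 2 ∣ Nat.card (GL (Fin 2) (ZMod q)) := by
      rw [← hcard]; exact Subgroup.card_dvd_of_injective ρ.toHomUnits hinj'
    rw [Matrix.card_GL_field, ZMod.card] at hd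
    simp only [Fin.prod_univ_two, Fin.val_zero, Fin.val_one, pow_zero, pow_one] at hd
    have hd' : q ∣ (q ^ 2 - 1) * (q - 1) := by
      have he : q ^ 2 - q = q * (q - 1) := by rw [Nat.mul_sub, pow_two, mul_one]
      rw [he, pow_two, ← mul_assoc, mul_comm (q * q - 1) q, mul_assoc] at hd
      rw [pow_two]
      exact (Nat.mul_dvd_mul_iff_left (Fact.out : q.Prime).pos).1 hd
    have hq2 := (Fact.out : q.Prime).two_le
    rcases (Nat.Prime.dvd_mul Fact.out).1 hd' with h | h
    · have h1 : q ∣ 1 := by
        have := Nat.dvd_sub (dvd_pow_self q (two_ne_zero)) h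
        rwa [Nat.sub_sub_self (Nat.one_le_pow _ _ (by omega))] at this
      exact (Fact.out : q.Prime).not_dvd_one h1
    · have := Nat.le_of_dvd (by omega) h
      omega
  let ι := algebraMap (ZMod p) (AlgebraicClosure (ZMod p))
  let σ : Q →* Matrix (Fin 2) (Fin 2) (AlgebraicClosure (ZMod p)) :=
    (ι.mapMatrix : Matrix (Fin 2) (Fin 2) (ZMod p) →+* _).toMonoidHom.comp ρ
  have hσinj : Function.Injective σ := (Matrix.map_injective ι.injective).comp hinj
  have hqK : (q : AlgebraicClosure (ZMod p)) ≠ 0 := by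
    rw [Ne, CharP.cast_eq_zero_iff _ p, Nat.prime_dvd_prime_iff_eq Fact.out Fact.out]
    exact Ne.symm hqp
  haveI : Group.IsSolvable Q := Group.isSolvable_of_comm hcomm
  have hodd : Odd (Nat.card Q) := by
    rw [hcard]; exact ((Fact.out : q.Prime).odd_of_ne_two hq).pow
  obtain ⟨v, hv, hv'⟩ := exists_common_eigenVec σ hodd
  choose lam hlam using hv'
  have hlam_mul : ∀ a b, lam (a * b) = lam a * lam b := fun a b => by
    apply smul_left_injective (AlgebraicClosure (ZMod p)) hv
    show lam (a * b) • v = (lam a * lam b) • v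
    rw [← hlam, rep_mulVec_mul, hlam, mulVec_smul, hlam, smul_smul, mul_comm]
  have hlam_one : lam 1 = 1 := by
    apply smul_left_injective (AlgebraicClosure (ZMod p)) hv
    show lam 1 • v = (1 : AlgebraicClosure (ZMod p)) • v
    rw [← hlam, map_one, one_mulVec, one_smul]
  let L : Q →* (AlgebraicClosure (ZMod p))ˣ :=
    MonoidHom.toHomUnits { toFun := lam, map_one' := hlam_one, map_mul' := hlam_mul }
  let D : Q →* (AlgebraicClosure (ZMod p))ˣ :=
    MonoidHom.toHomUnits { toFun := fun a => (σ a).det, map_one' := by simp,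
                           map_mul' := fun a b => by simp }
  have hroot : ∀ (f : Q →* (AlgebraicClosure (ZMod p))ˣ) (a : Q),
      f a ∈ rootsOfUnity q (AlgebraicClosure (ZMod p)) := fun f a => by
    rw [mem_rootsOfUnity, ← map_pow, hexp, map_one]
  let Φ : Q →* (rootsOfUnity q (AlgebraicClosure (ZMod p))) ×
      (rootsOfUnity q (AlgebraicClosure (ZMod p))) :=
    (L.codRestrict _ (hroot L)).prod ((D / L).codRestrict _ (hroot (D / L)))
  have hΦ : Function.Injective Φ := by
    rw [injective_iff_map_eq_one]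
    intro a ha
    have h1 : L a = 1 := congrArg Subtype.val (congrArg Prod.fst ha)
    have h2 : D a / L a = 1 := congrArg Subtype.val (congrArg Prod.snd ha)
    rw [h1, div_one] at h2
    have hl : lam a = 1 := congrArg Units.val h1
    have hd : (σ a).det = 1 := congrArg Units.val h2
    apply hσinj
    rw [map_one]
    refine eq_one_of_unipotent_two hqK
      (unipotent_two_of_fix_of_det hv (by rw [hlam, hl, one_smul]) hd) ?_
    rw [← map_pow, hexp, map_one]
  haveI : NeZero q := ⟨(Fact.out : q.Prime).ne_zero⟩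
  haveI : NeZero (q : AlgebraicClosure (ZMod p)) := ⟨hqK⟩
  have hroots : Nat.card (rootsOfUnity q (AlgebraicClosure (ZMod p))) = q :=
    HasEnoughRootsOfUnity.natCard_rootsOfUnity _ q
  have hbij : Function.Bijective Φ := by
    rw [Nat.bijective_iff_injective_and_card]
    exact ⟨hΦ, by rw [Nat.card_prod, hroots, hcard, pow_two]⟩
  haveI : Nontrivial (rootsOfUnity q (AlgebraicClosure (ZMod p))) := by
    rw [← Finite.one_lt_card_iff_nontrivial, hroots]; exact (Fact.out : q.Prime).one_lt
  obtain ⟨ζ, hζ⟩ := exists_ne (1 : rootsOfUnity q (AlgebraicClosure (ZMod p)))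
  obtain ⟨a, ha⟩ := hbij.2 (ζ, ζ)
  have h1 : lam a = (ζ : (AlgebraicClosure (ZMod p))ˣ) :=
    congrArg Units.val (congrArg Subtype.val (congrArg Prod.fst ha))
  have h2 : (σ a).det / lam a = (ζ : (AlgebraicClosure (ZMod p))ˣ) := by
    have := congrArg Units.val (congrArg Subtype.val (congrArg Prod.snd ha))
    rw [← this]
    exact (Units.val_div_eq_div_val (D a) (L a)).symm
  set z : AlgebraicClosure (ZMod p) := ((ζ : (AlgebraicClosure (ZMod p))ˣ) : AlgebraicClosure (ZMod p)) with hz
  have hz0 : z ≠ 0 := Units.ne_zero _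
  have hzq : z ^ q = 1 := by
    rw [hz, ← Units.val_pow_eq_pow_val, (mem_rootsOfUnity _ _).1 ζ.2, Units.val_one]
  rw [h1, div_eq_iff hz0] at h2
  have hM : z⁻¹ • σ a = 1 := by
    refine eq_one_of_unipotent_two hqK (unipotent_two_of_fix_of_det hv ?_ ?_) ?_
    · rw [smul_mulVec, hlam, h1, smul_smul, inv_mul_cancel₀ hz0, one_smul]
    · rw [det_smul, h2, Fintype.card_fin]; field_simp
    · rw [smul_pow, ← map_pow, hexp, map_one, inv_pow, hzq, inv_one, one_smul]
  have hσa : σ a = z • 1 := by
    rw [← hM, smul_smul, mul_inv_cancel₀ hz0, one_smul]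
  have hentry : ∀ i j, ι (ρ a i j) = σ a i j := fun i j => rfl
  have hr : ι (ρ a 0 0) = z := by rw [hentry, hσa]; simp
  have hrne : ρ a 0 0 ≠ 1 := by
    intro h
    apply hζ
    apply Subtype.ext; apply Units.ext
    rw [← hz, ← hr, h, map_one]; simp
  refine ⟨a, ?_, ρ a 0 0, hrne, ι.injective (by rw [map_pow, hr, hzq, map_one]),
    Matrix.map_injective ι.injective ?_⟩
  · rintro rfl; exact hrne (by simp)
  · ext i j
    change ι (ρ a i j) = ι ((ρ a 0 0 • (1 : Matrix _ _ _)) i j)
    rw [hentry, hσa]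
    simp only [Matrix.smul_apply, smul_eq_mul, map_mul, hr, one_apply]
    split <;> simp

/-- BG 2.7: an elementary abelian group of order `q ^ 2` acting faithfully on an elementary abelian
group of order `p ^ 2` has an element inducing a nontrivial scalar; in particular `q ∣ p - 1`. -/
theorem exists_scalar_of_abelem_two_on_abelem_two {G : Type*} [Group G] [Finite G] (p q : ℕ)
    [Fact p.Prime] [Fact q.Prime] (hq : q ≠ 2) {P Q : Subgroup G} (hP : IsElementaryAbelian p P)
    (hPc : Nat.card P = p ^ 2) (hQ : IsElementaryAbelian q Q) (hQc : Nat.card Q = q ^ 2)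
    (hQP : Q ≤ Subgroup.normalizer (P : Set G))
    (hfaith : Q ⊓ Subgroup.centralizer (P : Set G) = ⊥) :
    q ∣ p - 1 ∧ ∃ a ∈ Q, a ≠ 1 ∧
      ∃ r : ℕ, r ^ q % p = 1 ∧ r % p ≠ 1 ∧ ∀ x ∈ P, a * x * a⁻¹ = x ^ r := by
  letI : CommGroup P := { (inferInstance : Group P) with mul_comm := fun a b => hP.1.is_comm.comm a b }
  have hPexp : ∀ x : P, x ^ p = 1 := fun x => Subtype.ext (hP.2 x x.2)
  letI : Module (ZMod p) (Additive P) :=
    AddCommGroup.zmodModule (G := Additive P) fun x => hPexp (Additive.toMul x)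
  haveI : Finite (Additive P) := Finite.of_equiv P Additive.ofMul
  obtain ⟨ρ, hρ⟩ := exists_matrix_rep_of_card_sq (V := Additive P) p
    ((Nat.card_congr Additive.toMul).trans hPc)
  let f : Q →* AddMonoid.End (Additive P) :=
    { toFun := fun a =>
        { toFun := fun x => Additive.ofMul
            ⟨(a : G) * (Additive.toMul x : P) * (a : G)⁻¹,
              ((hQP a.2) (Additive.toMul x : P)).1 (Additive.toMul x : P).2⟩
          map_zero' := by apply Additive.toMul.injective; apply Subtype.ext; simp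
          map_add' := fun x y => by
            apply Additive.toMul.injective; apply Subtype.ext; simp [mul_assoc] }
      map_one' := DFunLike.ext _ _ fun x => by
        apply Additive.toMul.injective
        apply Subtype.ext
        show ((1 : Q) : G) * _ * ((1 : Q) : G)⁻¹ = _
        simp
      map_mul' := fun a b => DFunLike.ext _ _ fun x => by
        apply Additive.toMul.injective
        apply Subtype.ext
        show ((a * b : Q) : G) * _ * ((a * b : Q) : G)⁻¹
          = (a : G) * ((b : G) * _ * (b : G)⁻¹) * (a : G)⁻¹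
        simp [mul_assoc] }
  have hf : Function.Injective f := by
    rw [injective_iff_map_eq_one]
    intro a ha
    apply Subtype.ext
    have hmem : (a : G) ∈ Q ⊓ Subgroup.centralizer (P : Set G) := by
      refine ⟨a.2, Subgroup.mem_centralizer_iff.2 fun x hx => ?_⟩
      have h := congrArg (fun z => ((Additive.toMul z : P) : G))
        (DFunLike.congr_fun ha (Additive.ofMul (⟨x, hx⟩ : P)))
      simp only [f] at h
      exact (mul_inv_eq_iff_eq_mul.1 h).symm
    rw [hfaith, Subgroup.mem_bot] at hmem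
    simpa using hmem
  obtain ⟨a, ha1, r, hr1, hrq, hra⟩ := exists_scalar_of_abelem_two_rep p q hq
    (fun a b => hQ.1.is_comm.comm a b) (fun a => Subtype.ext (hQ.2 a a.2)) hQc
    (ρ.toMonoidHom.comp f) (hρ.comp hf)
  have hfa : f a = (r.val : AddMonoid.End (Additive P)) := by
    apply hρ
    rw [map_natCast, ← Matrix.diagonal_natCast, ← Matrix.smul_one_eq_diagonal, ZMod.natCast_zmod_val]
    exact hra
  refine ⟨?_, a, a.2, fun h => ha1 (Subtype.ext h), r.val, ?_, ?_, fun x hx => ?_⟩
  · have hr0 : r ≠ 0 := fun h => by simp [h, (Fact.out : q.Prime).ne_zero] at hrq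
    have hord : orderOf r = q := orderOf_eq_prime hrq hr1
    exact hord ▸ ZMod.orderOf_dvd_card_sub_one hr0
  · have h := congrArg ZMod.val (show ((r.val ^ q : ℕ) : ZMod p) = ((1 : ℕ) : ZMod p) by simp [hrq])
    rw [ZMod.val_natCast, ZMod.val_natCast, Nat.one_mod_eq_one.2 (Fact.out : p.Prime).ne_one] at h
    exact h
  · intro h
    apply hr1
    rw [← ZMod.natCast_zmod_val r, ← Nat.cast_one]
    exact (ZMod.natCast_eq_natCast_iff' _ _ _).2
      (by rw [h, Nat.one_mod_eq_one.2 (Fact.out : p.Prime).ne_one])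
  · have h := congrArg (fun z => ((Additive.toMul z : P) : G))
      ((DFunLike.congr_fun hfa (Additive.ofMul (⟨x, hx⟩ : P))).trans
        (AddMonoid.End.natCast_apply (M := Additive P) r.val (Additive.ofMul (⟨x, hx⟩ : P))))
    simp only [f] at h
    exact h

end CfsgLib.OddOrder
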